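import Cfsg.Agent.Lib.CosetEnum.Fi23Sylow.Data
import Cfsg.Agent.Lib.CosetEnum.Fi23Out.Valid

/-! Kernel checks. -/

set_option autoImplicit false
set_option maxRecDepth 100000
set_option Elab.async false

namespace Cfsg.Lib.CosetEnum.Fi23Sylow

open Fi23Fi22 (tabP)
open Fi23Out

theorem group_ok : groupListOK 23 gens ginv Dl par = true := by decide +kernel

theorem grow_ok : growAllOK 23 gens ginv Dl subs grows = true := by decide +kernel

theorem pts_ok : (framePts tabP 10 pts Fi23Out.fg Fi23Out.aux).length = 23 ∧ (framePts tabP 10 pts Fi23Out.fg Fi23Out.aux).Nodup := by decide +kernel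

theorem lift_ok : (List.range gens.length).all (fun i => liftOK tabP 10 (framePts tabP 10 pts Fi23Out.fg Fi23Out.aux) (lifts.getD i []) (gens.getD i [])) = true := by decide +kernel

theorem bound1_ok : boundOK tabP 10 (framePts tabP 10 pts Fi23Out.fg Fi23Out.aux) (frameWords Fi23Out.fg Fi23Out.aux) codePts entries sub1 sel1 = true := by decide +kernel

theorem bound2_ok : boundOK tabP 10 (framePts tabP 10 pts Fi23Out.fg Fi23Out.aux) (frameWords Fi23Out.fg Fi23Out.aux) codePts entries sub2 sel2 = true := by decide +kernel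

theorem bound3_ok : boundOK tabP 10 (framePts tabP 10 pts Fi23Out.fg Fi23Out.aux) (frameWords Fi23Out.fg Fi23Out.aux) codePts entries sub3 sel3 = true := by decide +kernel

theorem bound4_ok : boundOK tabP 10 (framePts tabP 10 pts Fi23Out.fg Fi23Out.aux) (frameWords Fi23Out.fg Fi23Out.aux) codePts entries sub4 sel4 = true := by decide +kernel

theorem bound5_ok : boundOK tabP 10 (framePts tabP 10 pts Fi23Out.fg Fi23Out.aux) (frameWords Fi23Out.fg Fi23Out.aux) codePts entries sub5 sel5 = true := by decide +kernel

theorem bound6_ok : boundOK tabP 10 (framePts tabP 10 pts Fi23Out.fg Fi23Out.aux) (frameWords Fi23Out.fg Fi23Out.aux) codePts entries sub6 sel6 = true := by decide +kernel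

theorem bound_ok : ∀ b < subs.length, b ≠ 0 → boundOK tabP 10 (framePts tabP 10 pts Fi23Out.fg Fi23Out.aux) (frameWords Fi23Out.fg Fi23Out.aux) codePts entries (subs.getD b []) (sels.getD b []) = true := by
  intro b hb h0
  have : b = 1 ∨ b = 2 ∨ b = 3 ∨ b = 4 ∨ b = 5 ∨ b = 6 := by
    simp only [subs, List.length_cons, List.length_nil] at hb
    omega
  rcases this with rfl | rfl | rfl | rfl | rfl | rfl
  · exact bound1_ok
  · exact bound2_ok
  · exact bound3_ok
  · exact bound4_ok
  · exact bound5_ok
  · exact bound6_ok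

end Cfsg.Lib.CosetEnum.Fi23Sylow
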