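import Cfsg.Agent.Lib.CosetEnum.Trans.DefsNormal

/-! Generated certificate. -/

set_option autoImplicit false
set_option maxRecDepth 100000

namespace Cfsg.Lib.CosetEnum.Fi23Sylow

/-- Generators of the action of a Sylow subgroup on the frame. -/
def gens : List (List Nat) :=
  [[0, 3, 2, 1, 10, 5, 15, 7, 14, 9, 4, 11, 12, 19, 8, 6, 17, 16, 20, 13, 18, 22, 21],
    [0, 3, 2, 1, 4, 5, 18, 12, 13, 11, 10, 9, 7, 8, 19, 20, 16, 17, 6, 14, 15, 22, 21],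
    [0, 1, 2, 3, 7, 5, 8, 4, 6, 16, 12, 17, 10, 15, 18, 13, 9, 11, 14, 20, 19, 21, 22],
    [0, 1, 2, 3, 9, 5, 14, 16, 18, 4, 11, 10, 17, 20, 6, 19, 7, 12, 8, 15, 13, 21, 22],
    [0, 1, 2, 3, 6, 5, 4, 8, 7, 14, 20, 13, 19, 11, 9, 17, 18, 15, 16, 12, 10, 21, 22],
    [2, 1, 0, 3, 4, 5, 6, 8, 7, 14, 17, 19, 13, 12, 9, 20, 16, 10, 18, 11, 15, 22, 21],
    [1, 0, 3, 2, 4, 5, 10, 9, 11, 7, 6, 8, 14, 19, 12, 15, 16, 18, 17, 13, 20, 21, 22]]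

/-- Their inverses. -/
def ginv : List (List Nat) :=
  [[0, 3, 2, 1, 10, 5, 15, 7, 14, 9, 4, 11, 12, 19, 8, 6, 17, 16, 20, 13, 18, 22, 21],
    [0, 3, 2, 1, 4, 5, 18, 12, 13, 11, 10, 9, 7, 8, 19, 20, 16, 17, 6, 14, 15, 22, 21],
    [0, 1, 2, 3, 7, 5, 8, 4, 6, 16, 12, 17, 10, 15, 18, 13, 9, 11, 14, 20, 19, 21, 22],
    [0, 1, 2, 3, 9, 5, 14, 16, 18, 4, 11, 10, 17, 20, 6, 19, 7, 12, 8, 15, 13, 21, 22],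
    [0, 1, 2, 3, 6, 5, 4, 8, 7, 14, 20, 13, 19, 11, 9, 17, 18, 15, 16, 12, 10, 21, 22],
    [2, 1, 0, 3, 4, 5, 6, 8, 7, 14, 17, 19, 13, 12, 9, 20, 16, 10, 18, 11, 15, 22, 21],
    [1, 0, 3, 2, 4, 5, 10, 9, 11, 7, 6, 8, 14, 19, 12, 15, 16, 18, 17, 13, 20, 21, 22]]

/-- Words inducing the generators. -/
def lifts : List (List Nat) :=
  [[5, 4, 6, 5, 8, 3, 2, 4, 3, 8, 5, 4, 6, 5],
    [5, 4, 6, 5, 3, 2, 4, 3, 5, 4, 6, 5],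
    [3, 2, 4, 3, 8, 3, 2, 4, 3, 8],
    [5, 4, 6, 5, 1, 0, 2, 1, 3, 2, 4, 3, 8, 3, 2, 4, 3, 8, 1, 0, 2, 1, 5, 4, 6, 5],
    [1, 0, 2, 1, 8, 3, 2, 4, 3, 8, 3, 2, 1, 0, 4, 3, 2, 1],
    [3, 2, 4, 3, 1, 0, 2, 1, 3, 2, 4, 3],
    [1, 0, 2, 1, 5, 4, 6, 5]]

/-- The action of the Sylow subgroup. -/
def Dl : List (List Nat) :=
  [[0, 1, 2, 3, 4, 5, 6, 7, 8, 9, 10, 11, 12, 13, 14, 15, 16, 17, 18, 19, 20, 21, 22],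
    [0, 3, 2, 1, 10, 5, 15, 7, 14, 9, 4, 11, 12, 19, 8, 6, 17, 16, 20, 13, 18, 22, 21],
    [0, 3, 2, 1, 4, 5, 18, 12, 13, 11, 10, 9, 7, 8, 19, 20, 16, 17, 6, 14, 15, 22, 21],
    [0, 1, 2, 3, 7, 5, 8, 4, 6, 16, 12, 17, 10, 15, 18, 13, 9, 11, 14, 20, 19, 21, 22],
    [0, 1, 2, 3, 9, 5, 14, 16, 18, 4, 11, 10, 17, 20, 6, 19, 7, 12, 8, 15, 13, 21, 22],
    [0, 1, 2, 3, 6, 5, 4, 8, 7, 14, 20, 13, 19, 11, 9, 17, 18, 15, 16, 12, 10, 21, 22],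
    [2, 1, 0, 3, 4, 5, 6, 8, 7, 14, 17, 19, 13, 12, 9, 20, 16, 10, 18, 11, 15, 22, 21],
    [1, 0, 3, 2, 4, 5, 10, 9, 11, 7, 6, 8, 14, 19, 12, 15, 16, 18, 17, 13, 20, 21, 22],
    [0, 1, 2, 3, 10, 5, 20, 12, 19, 11, 4, 9, 7, 14, 13, 18, 17, 16, 15, 8, 6, 21, 22],
    [0, 3, 2, 1, 12, 5, 13, 4, 18, 16, 7, 17, 10, 20, 6, 8, 11, 9, 19, 15, 14, 22, 21],
    [0, 3, 2, 1, 11, 5, 19, 16, 6, 4, 9, 10, 17, 15, 18, 14, 12, 7, 13, 20, 8, 22, 21],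
    [0, 3, 2, 1, 20, 5, 17, 8, 9, 14, 6, 13, 19, 12, 7, 4, 15, 18, 10, 11, 16, 22, 21],
    [2, 3, 0, 1, 17, 5, 20, 8, 9, 14, 4, 19, 13, 11, 7, 6, 10, 16, 15, 12, 18, 21, 22],
    [1, 2, 3, 0, 6, 5, 15, 9, 12, 7, 4, 8, 14, 13, 11, 10, 18, 16, 20, 19, 17, 22, 21],
    [0, 3, 2, 1, 7, 5, 14, 10, 15, 17, 12, 16, 4, 6, 20, 19, 9, 11, 8, 18, 13, 22, 21],
    [0, 3, 2, 1, 9, 5, 8, 17, 20, 10, 11, 4, 16, 18, 15, 13, 7, 12, 14, 6, 19, 22, 21],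
    [0, 3, 2, 1, 6, 5, 16, 19, 11, 13, 20, 14, 8, 7, 12, 10, 18, 15, 4, 9, 17, 22, 21],
    [2, 3, 0, 1, 4, 5, 18, 13, 12, 19, 17, 14, 8, 7, 11, 15, 16, 10, 6, 9, 20, 21, 22],
    [1, 2, 3, 0, 4, 5, 17, 14, 19, 8, 6, 7, 9, 11, 13, 20, 16, 18, 10, 12, 15, 22, 21],
    [0, 1, 2, 3, 16, 5, 18, 9, 14, 7, 17, 12, 11, 19, 8, 20, 4, 10, 6, 13, 15, 21, 22],
    [0, 1, 2, 3, 8, 5, 7, 6, 4, 18, 19, 15, 20, 17, 16, 11, 14, 13, 9, 10, 12, 21, 22],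
    [2, 1, 0, 3, 8, 5, 7, 4, 6, 16, 13, 10, 17, 20, 18, 12, 14, 19, 9, 15, 11, 22, 21],
    [1, 0, 3, 2, 9, 5, 11, 4, 10, 16, 14, 18, 6, 15, 17, 19, 7, 8, 12, 20, 13, 21, 22],
    [0, 1, 2, 3, 14, 5, 9, 18, 16, 6, 13, 20, 15, 10, 4, 12, 8, 19, 7, 17, 11, 21, 22],
    [2, 1, 0, 3, 14, 5, 9, 16, 18, 4, 19, 17, 10, 15, 6, 11, 8, 13, 7, 20, 12, 22, 21],
    [1, 0, 3, 2, 7, 5, 12, 16, 17, 4, 8, 6, 18, 20, 10, 13, 9, 14, 11, 15, 19, 21, 22],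
    [0, 3, 2, 1, 15, 5, 10, 14, 7, 8, 18, 19, 13, 11, 9, 16, 20, 6, 17, 12, 4, 22, 21],
    [0, 3, 2, 1, 18, 5, 4, 13, 12, 19, 15, 8, 14, 9, 11, 17, 6, 20, 16, 7, 10, 22, 21],
    [2, 1, 0, 3, 6, 5, 4, 7, 8, 9, 15, 12, 11, 19, 14, 10, 18, 20, 16, 13, 17, 22, 21],
    [1, 0, 3, 2, 10, 5, 4, 11, 9, 12, 20, 19, 13, 8, 7, 18, 17, 15, 16, 14, 6, 21, 22],
    [2, 3, 0, 1, 10, 5, 15, 14, 7, 8, 16, 13, 19, 12, 9, 18, 17, 4, 20, 11, 6, 21, 22],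
    [2, 1, 0, 3, 7, 5, 8, 6, 4, 18, 11, 20, 15, 10, 16, 19, 9, 12, 14, 17, 13, 22, 21],
    [2, 1, 0, 3, 9, 5, 14, 18, 16, 6, 12, 15, 20, 17, 4, 13, 7, 11, 8, 10, 19, 22, 21],
    [3, 0, 1, 2, 4, 5, 10, 11, 9, 12, 18, 13, 19, 14, 7, 20, 16, 6, 17, 8, 15, 22, 21],
    [3, 0, 1, 2, 10, 5, 4, 9, 11, 7, 15, 14, 8, 13, 12, 6, 17, 20, 16, 19, 18, 22, 21],
    [1, 0, 3, 2, 6, 5, 20, 14, 13, 8, 4, 7, 9, 12, 19, 17, 18, 16, 15, 11, 10, 21, 22],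
    [0, 1, 2, 3, 12, 5, 19, 10, 20, 17, 7, 16, 4, 18, 15, 14, 11, 9, 13, 6, 8, 21, 22],
    [0, 1, 2, 3, 11, 5, 13, 17, 15, 10, 9, 4, 16, 6, 20, 8, 12, 7, 19, 18, 14, 21, 22],
    [0, 1, 2, 3, 20, 5, 10, 19, 12, 13, 6, 14, 8, 9, 11, 16, 15, 18, 17, 7, 4, 21, 22],
    [2, 1, 0, 3, 17, 5, 15, 13, 11, 19, 4, 14, 8, 9, 12, 18, 10, 16, 20, 7, 6, 22, 21],
    [0, 3, 2, 1, 17, 5, 20, 9, 8, 7, 16, 12, 11, 13, 14, 18, 10, 4, 15, 19, 6, 22, 21],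
    [0, 3, 2, 1, 19, 5, 11, 6, 16, 18, 8, 15, 20, 10, 4, 7, 13, 14, 12, 17, 9, 22, 21],
    [2, 3, 0, 1, 13, 5, 12, 4, 18, 16, 8, 10, 17, 15, 6, 7, 19, 14, 11, 20, 9, 21, 22],
    [1, 2, 3, 0, 14, 5, 19, 4, 17, 16, 9, 18, 6, 20, 10, 11, 8, 7, 13, 15, 12, 22, 21],
    [0, 3, 2, 1, 13, 5, 12, 18, 4, 6, 14, 20, 15, 17, 16, 9, 19, 8, 11, 10, 7, 22, 21],
    [2, 3, 0, 1, 19, 5, 11, 16, 6, 4, 14, 17, 10, 20, 18, 9, 13, 8, 12, 15, 7, 21, 22],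
    [1, 2, 3, 0, 8, 5, 13, 16, 10, 4, 7, 6, 18, 15, 17, 12, 14, 9, 19, 20, 11, 22, 21],
    [0, 1, 2, 3, 18, 5, 16, 14, 9, 8, 15, 19, 13, 12, 7, 10, 6, 20, 4, 11, 17, 21, 22],
    [0, 1, 2, 3, 15, 5, 17, 13, 11, 19, 18, 8, 14, 7, 12, 4, 20, 6, 10, 9, 16, 21, 22],
    [2, 3, 0, 1, 15, 5, 10, 7, 14, 9, 6, 12, 11, 13, 8, 4, 20, 18, 17, 19, 16, 21, 22],
    [1, 2, 3, 0, 20, 5, 18, 11, 7, 12, 10, 19, 13, 14, 9, 4, 15, 17, 6, 8, 16, 22, 21],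
    [2, 1, 0, 3, 16, 5, 18, 14, 9, 8, 10, 13, 19, 11, 7, 15, 4, 17, 6, 12, 20, 22, 21],
    [2, 3, 0, 1, 11, 5, 19, 6, 16, 18, 7, 20, 15, 17, 4, 8, 12, 9, 13, 10, 14, 21, 22],
    [2, 3, 0, 1, 12, 5, 13, 18, 4, 6, 9, 15, 20, 10, 16, 14, 11, 7, 19, 17, 8, 21, 22],
    [3, 2, 1, 0, 18, 5, 20, 11, 7, 12, 4, 13, 19, 8, 9, 10, 6, 16, 15, 14, 17, 21, 22],
    [3, 2, 1, 0, 15, 5, 6, 9, 12, 7, 10, 14, 8, 19, 11, 4, 20, 17, 18, 13, 16, 21, 22],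
    [0, 3, 2, 1, 16, 5, 6, 11, 19, 12, 17, 7, 9, 14, 13, 15, 4, 10, 18, 8, 20, 22, 21],
    [0, 3, 2, 1, 8, 5, 9, 20, 17, 15, 19, 18, 6, 4, 10, 12, 14, 13, 7, 16, 11, 22, 21],
    [2, 3, 0, 1, 8, 5, 9, 17, 20, 10, 13, 16, 4, 6, 15, 11, 14, 19, 7, 18, 12, 21, 22],
    [1, 2, 3, 0, 9, 5, 12, 6, 15, 18, 14, 16, 4, 10, 20, 13, 7, 8, 11, 17, 19, 22, 21],
    [0, 3, 2, 1, 14, 5, 7, 15, 10, 20, 13, 6, 18, 16, 17, 11, 8, 19, 9, 4, 12, 22, 21],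
    [2, 3, 0, 1, 14, 5, 7, 10, 15, 17, 19, 4, 16, 18, 20, 12, 8, 13, 9, 6, 11, 21, 22],
    [1, 2, 3, 0, 7, 5, 11, 18, 20, 6, 8, 4, 16, 17, 15, 19, 9, 14, 12, 10, 13, 22, 21],
    [2, 3, 0, 1, 6, 5, 16, 11, 19, 12, 15, 9, 7, 8, 13, 17, 18, 20, 4, 14, 10, 21, 22],
    [1, 2, 3, 0, 10, 5, 16, 13, 8, 19, 20, 12, 11, 9, 14, 6, 17, 15, 4, 7, 18, 22, 21],
    [2, 1, 0, 3, 10, 5, 20, 19, 12, 13, 16, 8, 14, 7, 11, 6, 17, 4, 15, 9, 18, 22, 21],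
    [2, 3, 0, 1, 7, 5, 14, 15, 10, 20, 11, 18, 6, 4, 17, 13, 9, 12, 8, 16, 19, 21, 22],
    [2, 3, 0, 1, 9, 5, 8, 20, 17, 15, 12, 6, 18, 16, 10, 19, 7, 11, 14, 4, 13, 21, 22],
    [3, 2, 1, 0, 4, 5, 17, 19, 14, 13, 18, 12, 11, 9, 8, 15, 16, 6, 10, 7, 20, 21, 22],
    [3, 2, 1, 0, 10, 5, 16, 8, 13, 14, 15, 7, 9, 11, 19, 18, 17, 20, 4, 12, 6, 21, 22],
    [1, 0, 3, 2, 16, 5, 17, 7, 12, 9, 18, 14, 8, 13, 11, 20, 4, 6, 10, 19, 15, 21, 22],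
    [1, 0, 3, 2, 11, 5, 9, 10, 4, 17, 13, 15, 20, 18, 16, 8, 12, 19, 7, 6, 14, 21, 22],
    [2, 1, 0, 3, 18, 5, 16, 9, 14, 7, 20, 11, 12, 13, 8, 17, 6, 15, 4, 19, 10, 22, 21],
    [3, 0, 1, 2, 11, 5, 9, 4, 10, 16, 19, 6, 18, 20, 17, 14, 12, 13, 7, 15, 8, 22, 21],
    [3, 0, 1, 2, 9, 5, 11, 10, 4, 17, 8, 20, 15, 6, 16, 13, 7, 14, 12, 18, 19, 22, 21],
    [1, 0, 3, 2, 14, 5, 13, 6, 20, 18, 9, 16, 4, 17, 15, 12, 8, 7, 19, 10, 11, 21, 22],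
    [1, 0, 3, 2, 12, 5, 7, 17, 16, 10, 19, 20, 15, 6, 4, 14, 11, 13, 9, 18, 8, 21, 22],
    [3, 0, 1, 2, 12, 5, 7, 16, 17, 4, 13, 18, 6, 15, 10, 8, 11, 19, 9, 20, 14, 22, 21],
    [3, 0, 1, 2, 7, 5, 12, 17, 16, 10, 14, 15, 20, 18, 4, 19, 9, 8, 11, 6, 13, 22, 21],
    [1, 0, 3, 2, 8, 5, 19, 18, 15, 6, 7, 4, 16, 10, 20, 11, 14, 9, 13, 17, 12, 21, 22],
    [2, 3, 0, 1, 20, 5, 17, 9, 8, 7, 18, 11, 12, 19, 14, 16, 15, 6, 10, 13, 4, 21, 22],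
    [1, 2, 3, 0, 15, 5, 6, 12, 9, 11, 17, 13, 19, 8, 7, 16, 20, 10, 18, 14, 4, 22, 21],
    [2, 3, 0, 1, 18, 5, 4, 12, 13, 11, 20, 7, 9, 14, 19, 10, 6, 15, 16, 8, 17, 21, 22],
    [1, 2, 3, 0, 17, 5, 4, 19, 14, 13, 15, 11, 12, 7, 8, 18, 10, 20, 16, 9, 6, 22, 21],
    [1, 0, 3, 2, 20, 5, 6, 13, 14, 19, 10, 12, 11, 7, 8, 16, 15, 17, 18, 9, 4, 21, 22],
    [3, 2, 1, 0, 6, 5, 15, 12, 9, 11, 16, 19, 13, 14, 7, 17, 18, 4, 20, 8, 10, 21, 22],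
    [3, 0, 1, 2, 6, 5, 20, 13, 14, 19, 16, 11, 12, 9, 8, 10, 18, 4, 15, 7, 17, 22, 21],
    [3, 0, 1, 2, 20, 5, 6, 14, 13, 8, 17, 9, 7, 11, 19, 4, 15, 10, 18, 12, 16, 22, 21],
    [3, 2, 1, 0, 17, 5, 4, 14, 19, 8, 20, 9, 7, 12, 13, 6, 10, 15, 16, 11, 18, 21, 22],
    [3, 0, 1, 2, 15, 5, 18, 8, 19, 14, 10, 7, 9, 12, 13, 16, 20, 17, 6, 11, 4, 22, 21],
    [3, 0, 1, 2, 18, 5, 15, 19, 8, 13, 4, 12, 11, 7, 14, 17, 6, 16, 20, 9, 10, 22, 21],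
    [0, 1, 2, 3, 17, 5, 15, 11, 13, 12, 16, 7, 9, 8, 19, 6, 10, 4, 20, 14, 18, 21, 22],
    [0, 1, 2, 3, 19, 5, 12, 20, 10, 15, 8, 18, 6, 16, 17, 9, 13, 14, 11, 4, 7, 21, 22],
    [2, 1, 0, 3, 13, 5, 11, 17, 15, 10, 8, 16, 4, 18, 20, 9, 19, 14, 12, 6, 7, 22, 21],
    [0, 1, 2, 3, 13, 5, 11, 15, 17, 20, 14, 6, 18, 4, 10, 7, 19, 8, 12, 16, 9, 21, 22],
    [2, 1, 0, 3, 19, 5, 12, 10, 20, 17, 14, 4, 16, 6, 15, 7, 13, 8, 11, 18, 9, 22, 21],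
    [2, 1, 0, 3, 15, 5, 17, 11, 13, 12, 6, 9, 7, 14, 19, 16, 20, 18, 10, 8, 4, 22, 21],
    [2, 3, 0, 1, 16, 5, 6, 19, 11, 13, 10, 8, 14, 9, 12, 20, 4, 17, 18, 7, 15, 21, 22],
    [2, 1, 0, 3, 11, 5, 13, 15, 17, 20, 7, 18, 6, 16, 10, 14, 12, 9, 19, 4, 8, 22, 21],
    [2, 1, 0, 3, 12, 5, 19, 20, 10, 15, 9, 6, 18, 4, 17, 8, 11, 7, 13, 16, 14, 22, 21],
    [1, 2, 3, 0, 18, 5, 20, 7, 11, 9, 16, 14, 8, 19, 12, 17, 6, 4, 15, 13, 10, 22, 21],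
    [1, 2, 3, 0, 13, 5, 8, 10, 16, 17, 11, 15, 20, 6, 4, 9, 19, 12, 14, 18, 7, 22, 21],
    [3, 2, 1, 0, 19, 5, 14, 4, 17, 16, 11, 6, 18, 15, 10, 9, 13, 12, 8, 20, 7, 21, 22],
    [3, 2, 1, 0, 8, 5, 13, 10, 16, 17, 9, 20, 15, 18, 4, 11, 14, 7, 19, 6, 12, 21, 22],
    [1, 2, 3, 0, 19, 5, 14, 17, 4, 10, 12, 20, 15, 18, 16, 7, 13, 11, 8, 6, 9, 22, 21],
    [3, 2, 1, 0, 13, 5, 8, 16, 10, 4, 12, 18, 6, 20, 17, 7, 19, 11, 14, 15, 9, 21, 22],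
    [3, 2, 1, 0, 14, 5, 19, 17, 4, 10, 7, 15, 20, 6, 16, 12, 8, 9, 13, 18, 11, 21, 22],
    [1, 0, 3, 2, 17, 5, 16, 12, 7, 11, 15, 13, 19, 14, 9, 6, 10, 20, 4, 8, 18, 21, 22],
    [2, 1, 0, 3, 20, 5, 10, 12, 19, 11, 18, 7, 9, 8, 13, 4, 15, 6, 17, 14, 16, 22, 21],
    [1, 0, 3, 2, 15, 5, 18, 19, 8, 13, 17, 11, 12, 9, 14, 4, 20, 10, 6, 7, 16, 21, 22],
    [3, 0, 1, 2, 16, 5, 17, 12, 7, 11, 6, 19, 13, 8, 9, 15, 4, 18, 10, 14, 20, 22, 21],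
    [3, 2, 1, 0, 16, 5, 10, 13, 8, 19, 6, 11, 12, 7, 14, 20, 4, 18, 17, 9, 15, 21, 22],
    [1, 2, 3, 0, 16, 5, 10, 8, 13, 14, 18, 9, 7, 12, 19, 15, 4, 6, 17, 11, 20, 22, 21],
    [1, 2, 3, 0, 11, 5, 7, 20, 18, 15, 13, 17, 10, 4, 6, 14, 12, 19, 9, 16, 8, 22, 21],
    [3, 2, 1, 0, 11, 5, 7, 18, 20, 6, 19, 16, 4, 10, 15, 8, 12, 13, 9, 17, 14, 21, 22],
    [3, 2, 1, 0, 9, 5, 12, 15, 6, 20, 8, 17, 10, 4, 18, 19, 7, 14, 11, 16, 13, 21, 22],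
    [1, 2, 3, 0, 12, 5, 9, 15, 6, 20, 19, 10, 17, 16, 18, 8, 11, 13, 7, 4, 14, 22, 21],
    [3, 2, 1, 0, 12, 5, 9, 6, 15, 18, 13, 4, 16, 17, 20, 14, 11, 19, 7, 10, 8, 21, 22],
    [3, 2, 1, 0, 7, 5, 11, 20, 18, 15, 14, 10, 17, 16, 6, 13, 9, 8, 12, 4, 19, 21, 22],
    [3, 2, 1, 0, 20, 5, 18, 7, 11, 9, 17, 8, 14, 13, 12, 16, 15, 10, 6, 19, 4, 21, 22],
    [3, 0, 1, 2, 17, 5, 16, 7, 12, 9, 20, 8, 14, 19, 11, 18, 10, 15, 4, 13, 6, 22, 21],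
    [1, 0, 3, 2, 18, 5, 15, 8, 19, 14, 16, 9, 7, 11, 13, 10, 6, 4, 20, 12, 17, 21, 22],
    [1, 0, 3, 2, 13, 5, 14, 20, 6, 15, 11, 17, 10, 16, 18, 7, 19, 12, 8, 4, 9, 21, 22],
    [3, 0, 1, 2, 13, 5, 14, 6, 20, 18, 12, 4, 16, 10, 15, 9, 19, 11, 8, 17, 7, 22, 21],
    [3, 0, 1, 2, 14, 5, 13, 20, 6, 15, 7, 10, 17, 4, 18, 11, 8, 9, 19, 16, 12, 22, 21],
    [3, 0, 1, 2, 8, 5, 19, 15, 18, 20, 9, 17, 10, 16, 6, 12, 14, 7, 13, 4, 11, 22, 21],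
    [3, 0, 1, 2, 19, 5, 8, 18, 15, 6, 11, 16, 4, 17, 20, 7, 13, 12, 14, 10, 9, 22, 21],
    [1, 0, 3, 2, 19, 5, 8, 15, 18, 20, 12, 10, 17, 4, 6, 9, 13, 11, 14, 16, 7, 21, 22]]

/-- Generation of the listed maps. -/
def par : List (Nat × Nat) :=
  [(0, 0), (0, 0), (1, 0), (2, 0), (3, 0), (4, 0), (5, 0), (6, 0), (1, 1), (2, 1), (3, 1), (4, 1), (5, 1), (6, 1), (2, 2), (3, 2), (4, 2), (5, 2), (6, 2), (3, 3), (4, 3), (5, 3), (6, 3), (4, 4), (5, 4), (6, 4), (0, 5), (1, 5), (5, 5), (6, 5), (0, 6), (2, 6), (3, 6), (6, 6), (0, 7), (4, 7), (2, 8), (3, 8), (4, 8), (5, 8), (3, 9), (4, 9), (5, 9), (6, 9), (4, 10), (5, 10), (6, 10), (0, 11), (1, 11), (5, 11), (6, 11), (0, 12), (2, 12), (3, 12), (6, 12), (0, 13), (3, 14), (4, 14), (5, 14), (6, 14), (4, 15), (5, 15), (6, 15), (5,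 16), (6, 16), (0, 17), (2, 17), (3, 17), (6, 17), (0, 18), (6, 19), (6, 20), (3, 21), (6, 21), (0, 22), (4, 22), (6, 23), (6, 24), (0, 25), (4, 25), (5, 26), (6, 26), (5, 27), (6, 27), (4, 29), (6, 30), (4, 33), (4, 34), (5, 34), (0, 35), (1, 35), (3, 36), (4, 36), (5, 36), (4, 37), (5, 37), (5, 38), (0, 39), (2, 39), (3, 39), (6, 40), (6, 41), (6, 42), (0, 43), (6, 44), (6, 45), (0, 46), (6, 47), (5, 48), (6, 48), (6, 51), (4, 54), (6, 56), (6, 57), (6, 58), (0, 59), (6, 60), (6, 61), (0, 62), (4, 69), (5, 69), (4, 70), (4, 71), (4, 73), (4, 74), (0, 75), (1, 75), (4, 76)]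

/-- A normal elementary abelian subgroup of the action. -/
def sub0 : List (List Nat) :=
  [[0, 1, 2, 3, 4, 5, 6, 7, 8, 9, 10, 11, 12, 13, 14, 15, 16, 17, 18, 19, 20, 21, 22]]

/-- A normal elementary abelian subgroup of the action. -/
def sub1 : List (List Nat) :=
  [[0, 1, 2, 3, 4, 5, 6, 7, 8, 9, 10, 11, 12, 13, 14, 15, 16, 17, 18, 19, 20, 21, 22],
    [0, 1, 2, 3, 16, 5, 18, 9, 14, 7, 17, 12, 11, 19, 8, 20, 4, 10, 6, 13, 15, 21, 22]]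

/-- Words inducing some of its elements. -/
def sel1 : List (Nat × List Nat) :=
  [(1, [8, 3, 2, 4, 3, 8, 3, 2, 4, 3, 5, 4, 6, 5, 1, 0, 2, 1, 3, 2, 4, 3, 8, 3, 2, 4, 3, 8, 1, 0, 2, 1, 5, 4, 6, 5])]

/-- A normal elementary abelian subgroup of the action. -/
def sub2 : List (List Nat) :=
  [[0, 1, 2, 3, 4, 5, 6, 7, 8, 9, 10, 11, 12, 13, 14, 15, 16, 17, 18, 19, 20, 21, 22],
    [0, 1, 2, 3, 16, 5, 18, 9, 14, 7, 17, 12, 11, 19, 8, 20, 4, 10, 6, 13, 15, 21, 22],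
    [0, 1, 2, 3, 20, 5, 10, 19, 12, 13, 6, 14, 8, 9, 11, 16, 15, 18, 17, 7, 4, 21, 22],
    [0, 1, 2, 3, 15, 5, 17, 13, 11, 19, 18, 8, 14, 7, 12, 4, 20, 6, 10, 9, 16, 21, 22]]

/-- Words inducing some of its elements. -/
def sel2 : List (Nat × List Nat) :=
  [(1, [8, 3, 2, 4, 3, 8, 3, 2, 4, 3, 5, 4, 6, 5, 1, 0, 2, 1, 3, 2, 4, 3, 8, 3, 2, 4, 3, 8, 1, 0, 2, 1, 5, 4, 6, 5])]

/-- A normal elementary abelian subgroup of the action. -/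
def sub3 : List (List Nat) :=
  [[0, 1, 2, 3, 4, 5, 6, 7, 8, 9, 10, 11, 12, 13, 14, 15, 16, 17, 18, 19, 20, 21, 22],
    [0, 1, 2, 3, 6, 5, 4, 8, 7, 14, 20, 13, 19, 11, 9, 17, 18, 15, 16, 12, 10, 21, 22],
    [0, 1, 2, 3, 10, 5, 20, 12, 19, 11, 4, 9, 7, 14, 13, 18, 17, 16, 15, 8, 6, 21, 22],
    [0, 1, 2, 3, 16, 5, 18, 9, 14, 7, 17, 12, 11, 19, 8, 20, 4, 10, 6, 13, 15, 21, 22],
    [0, 1, 2, 3, 20, 5, 10, 19, 12, 13, 6, 14, 8, 9, 11, 16, 15, 18, 17, 7, 4, 21, 22],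
    [0, 1, 2, 3, 18, 5, 16, 14, 9, 8, 15, 19, 13, 12, 7, 10, 6, 20, 4, 11, 17, 21, 22],
    [0, 1, 2, 3, 15, 5, 17, 13, 11, 19, 18, 8, 14, 7, 12, 4, 20, 6, 10, 9, 16, 21, 22],
    [0, 1, 2, 3, 17, 5, 15, 11, 13, 12, 16, 7, 9, 8, 19, 6, 10, 4, 20, 14, 18, 21, 22]]

/-- Words inducing some of its elements. -/
def sel3 : List (Nat × List Nat) :=
  [(1, [1, 0, 2, 1, 8, 3, 2, 4, 3, 8, 3, 2, 1, 0, 4, 3, 2, 1])]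

/-- A normal elementary abelian subgroup of the action. -/
def sub4 : List (List Nat) :=
  [[0, 1, 2, 3, 4, 5, 6, 7, 8, 9, 10, 11, 12, 13, 14, 15, 16, 17, 18, 19, 20, 21, 22],
    [2, 3, 0, 1, 4, 5, 18, 13, 12, 19, 17, 14, 8, 7, 11, 15, 16, 10, 6, 9, 20, 21, 22],
    [0, 1, 2, 3, 16, 5, 18, 9, 14, 7, 17, 12, 11, 19, 8, 20, 4, 10, 6, 13, 15, 21, 22],
    [0, 1, 2, 3, 20, 5, 10, 19, 12, 13, 6, 14, 8, 9, 11, 16, 15, 18, 17, 7, 4, 21, 22],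
    [0, 1, 2, 3, 15, 5, 17, 13, 11, 19, 18, 8, 14, 7, 12, 4, 20, 6, 10, 9, 16, 21, 22],
    [2, 3, 0, 1, 15, 5, 10, 7, 14, 9, 6, 12, 11, 13, 8, 4, 20, 18, 17, 19, 16, 21, 22],
    [2, 3, 0, 1, 20, 5, 17, 9, 8, 7, 18, 11, 12, 19, 14, 16, 15, 6, 10, 13, 4, 21, 22],
    [2, 3, 0, 1, 16, 5, 6, 19, 11, 13, 10, 8, 14, 9, 12, 20, 4, 17, 18, 7, 15, 21, 22]]

/-- Words inducing some of its elements. -/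
def sel4 : List (Nat × List Nat) :=
  [(1, [3, 2, 4, 3, 5, 4, 6, 5, 1, 0, 2, 1, 3, 2, 4, 3])]

/-- A normal elementary abelian subgroup of the action. -/
def sub5 : List (List Nat) :=
  [[0, 1, 2, 3, 4, 5, 6, 7, 8, 9, 10, 11, 12, 13, 14, 15, 16, 17, 18, 19, 20, 21, 22],
    [0, 1, 2, 3, 7, 5, 8, 4, 6, 16, 12, 17, 10, 15, 18, 13, 9, 11, 14, 20, 19, 21, 22],
    [0, 1, 2, 3, 9, 5, 14, 16, 18, 4, 11, 10, 17, 20, 6, 19, 7, 12, 8, 15, 13, 21, 22],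
    [0, 1, 2, 3, 6, 5, 4, 8, 7, 14, 20, 13, 19, 11, 9, 17, 18, 15, 16, 12, 10, 21, 22],
    [0, 1, 2, 3, 10, 5, 20, 12, 19, 11, 4, 9, 7, 14, 13, 18, 17, 16, 15, 8, 6, 21, 22],
    [0, 1, 2, 3, 16, 5, 18, 9, 14, 7, 17, 12, 11, 19, 8, 20, 4, 10, 6, 13, 15, 21, 22],
    [0, 1, 2, 3, 8, 5, 7, 6, 4, 18, 19, 15, 20, 17, 16, 11, 14, 13, 9, 10, 12, 21, 22],
    [0, 1, 2, 3, 14, 5, 9, 18, 16, 6, 13, 20, 15, 10, 4, 12, 8, 19, 7, 17, 11, 21, 22],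
    [0, 1, 2, 3, 12, 5, 19, 10, 20, 17, 7, 16, 4, 18, 15, 14, 11, 9, 13, 6, 8, 21, 22],
    [0, 1, 2, 3, 11, 5, 13, 17, 15, 10, 9, 4, 16, 6, 20, 8, 12, 7, 19, 18, 14, 21, 22],
    [0, 1, 2, 3, 20, 5, 10, 19, 12, 13, 6, 14, 8, 9, 11, 16, 15, 18, 17, 7, 4, 21, 22],
    [0, 1, 2, 3, 18, 5, 16, 14, 9, 8, 15, 19, 13, 12, 7, 10, 6, 20, 4, 11, 17, 21, 22],
    [0, 1, 2, 3, 15, 5, 17, 13, 11, 19, 18, 8, 14, 7, 12, 4, 20, 6, 10, 9, 16, 21, 22],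
    [0, 1, 2, 3, 17, 5, 15, 11, 13, 12, 16, 7, 9, 8, 19, 6, 10, 4, 20, 14, 18, 21, 22],
    [0, 1, 2, 3, 19, 5, 12, 20, 10, 15, 8, 18, 6, 16, 17, 9, 13, 14, 11, 4, 7, 21, 22],
    [0, 1, 2, 3, 13, 5, 11, 15, 17, 20, 14, 6, 18, 4, 10, 7, 19, 8, 12, 16, 9, 21, 22]]

/-- Words inducing some of its elements. -/
def sel5 : List (Nat × List Nat) :=
  [(1, [3, 2, 4, 3, 8, 3, 2, 4, 3, 8]),
    (3, [1, 0, 2, 1, 8, 3, 2, 4, 3, 8, 3, 2, 1, 0, 4, 3, 2, 1])]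

/-- A normal elementary abelian subgroup of the action. -/
def sub6 : List (List Nat) :=
  [[0, 1, 2, 3, 4, 5, 6, 7, 8, 9, 10, 11, 12, 13, 14, 15, 16, 17, 18, 19, 20, 21, 22],
    [1, 0, 3, 2, 4, 5, 10, 9, 11, 7, 6, 8, 14, 19, 12, 15, 16, 18, 17, 13, 20, 21, 22],
    [2, 3, 0, 1, 4, 5, 18, 13, 12, 19, 17, 14, 8, 7, 11, 15, 16, 10, 6, 9, 20, 21, 22],
    [0, 1, 2, 3, 16, 5, 18, 9, 14, 7, 17, 12, 11, 19, 8, 20, 4, 10, 6, 13, 15, 21, 22],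
    [0, 1, 2, 3, 20, 5, 10, 19, 12, 13, 6, 14, 8, 9, 11, 16, 15, 18, 17, 7, 4, 21, 22],
    [0, 1, 2, 3, 15, 5, 17, 13, 11, 19, 18, 8, 14, 7, 12, 4, 20, 6, 10, 9, 16, 21, 22],
    [2, 3, 0, 1, 15, 5, 10, 7, 14, 9, 6, 12, 11, 13, 8, 4, 20, 18, 17, 19, 16, 21, 22],
    [3, 2, 1, 0, 15, 5, 6, 9, 12, 7, 10, 14, 8, 19, 11, 4, 20, 17, 18, 13, 16, 21, 22],
    [3, 2, 1, 0, 4, 5, 17, 19, 14, 13, 18, 12, 11, 9, 8, 15, 16, 6, 10, 7, 20, 21, 22],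
    [1, 0, 3, 2, 16, 5, 17, 7, 12, 9, 18, 14, 8, 13, 11, 20, 4, 6, 10, 19, 15, 21, 22],
    [2, 3, 0, 1, 20, 5, 17, 9, 8, 7, 18, 11, 12, 19, 14, 16, 15, 6, 10, 13, 4, 21, 22],
    [1, 0, 3, 2, 20, 5, 6, 13, 14, 19, 10, 12, 11, 7, 8, 16, 15, 17, 18, 9, 4, 21, 22],
    [2, 3, 0, 1, 16, 5, 6, 19, 11, 13, 10, 8, 14, 9, 12, 20, 4, 17, 18, 7, 15, 21, 22],
    [1, 0, 3, 2, 15, 5, 18, 19, 8, 13, 17, 11, 12, 9, 14, 4, 20, 10, 6, 7, 16, 21, 22],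
    [3, 2, 1, 0, 16, 5, 10, 13, 8, 19, 6, 11, 12, 7, 14, 20, 4, 18, 17, 9, 15, 21, 22],
    [3, 2, 1, 0, 20, 5, 18, 7, 11, 9, 17, 8, 14, 13, 12, 16, 15, 10, 6, 19, 4, 21, 22]]

/-- Words inducing some of its elements. -/
def sel6 : List (Nat × List Nat) :=
  [(1, [1, 0, 2, 1, 5, 4, 6, 5]),
    (6, [8, 3, 2, 4, 3, 8, 1, 0, 2, 1, 5, 4, 6, 5, 8, 3, 2, 4, 3, 8])]

/-- The normal elementary abelian subgroups of the action. -/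
def subs : List (List (List Nat)) :=
  [sub0, sub1, sub2, sub3, sub4, sub5, sub6]

/-- Their chosen words. -/
def sels : List (List (Nat × List Nat)) :=
  [[], sel1, sel2, sel3, sel4, sel5, sel6]

/-- Witnesses above one subgroup. -/
def grow0 : List Grow :=
  [⟨0, 1, [.conj 1 2, .conj 1 6], none, 3, 2⟩,
    ⟨0, 2, [.conj 1 2, .conj 1 6], none, 3, 2⟩,
    ⟨0, 3, [.conj 1 0, .conj 1 5, .conj 1 6, .conj 2 5, .conj 2 6, .conj 3 6, .conj 5 6, .mul 2 1, .mul 3 1, .mul 3 2, .mul 4 1, .mul 4 2, .mul 4 3, .mul 5 1], some 5, 0, 0⟩,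
    ⟨0, 4, [.conj 1 0, .conj 1 5, .conj 1 6, .conj 2 5, .conj 2 6, .conj 3 6, .conj 5 6, .mul 2 1, .mul 3 1, .mul 3 2, .mul 4 1, .mul 4 2, .mul 4 3, .mul 5 1], some 5, 0, 0⟩,
    ⟨0, 5, [.conj 1 0, .conj 1 6, .conj 2 6, .mul 2 1, .mul 3 1, .mul 3 2], some 3, 0, 0⟩,
    ⟨0, 6, [.conj 1 2, .conj 1 6], none, 3, 2⟩,
    ⟨0, 7, [.conj 1 0, .conj 1 1, .conj 1 2, .conj 1 4, .conj 2 2, .conj 3 2, .conj 4 4, .mul 2 1, .mul 3 1, .mul 3 2, .mul 4 1, .mul 4 2, .mul 4 3, .mul 5 1], some 6, 0, 0⟩,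
    ⟨0, 8, [.conj 1 5, .conj 1 6, .conj 2 6, .mul 2 1, .mul 3 1, .mul 3 2], some 3, 0, 0⟩,
    ⟨0, 17, [.conj 1 0, .conj 1 2, .conj 2 2, .mul 2 1, .mul 3 1, .mul 3 2], some 4, 0, 0⟩,
    ⟨0, 19, [], some 1, 0, 0⟩,
    ⟨0, 20, [.conj 1 0, .conj 1 5, .conj 1 6, .conj 2 5, .conj 2 6, .conj 3 6, .conj 5 6, .mul 2 1, .mul 3 1, .mul 3 2, .mul 5 1, .mul 5 2, .mul 5 3, .mul 5 4], some 5, 0, 0⟩,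
    ⟨0, 23, [.conj 1 0, .conj 1 5, .conj 1 6, .conj 2 5, .conj 2 6, .conj 3 6, .conj 5 6, .mul 2 1, .mul 3 1, .mul 3 2, .mul 5 1, .mul 5 2, .mul 5 3, .mul 5 4], some 5, 0, 0⟩,
    ⟨0, 28, [.conj 1 2, .conj 1 6], none, 3, 2⟩,
    ⟨0, 36, [.conj 1 0, .conj 1 5, .conj 1 6, .conj 2 5, .conj 2 6, .conj 3 6, .conj 5 6, .mul 2 1, .mul 3 1, .mul 3 2, .mul 5 1, .mul 5 2, .mul 5 3, .mul 5 4], some 5, 0, 0⟩,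
    ⟨0, 37, [.conj 1 0, .conj 1 5, .conj 1 6, .conj 2 5, .conj 2 6, .conj 3 6, .conj 5 6, .mul 2 1, .mul 3 1, .mul 3 2, .mul 5 1, .mul 5 2, .mul 5 3, .mul 5 4], some 5, 0, 0⟩,
    ⟨0, 38, [.conj 1 0, .mul 2 1], some 2, 0, 0⟩,
    ⟨0, 40, [.conj 1 2, .conj 1 6], none, 3, 2⟩,
    ⟨0, 47, [.conj 1 0, .conj 1 6, .conj 2 6, .mul 2 1, .mul 3 1, .mul 3 2], some 3, 0, 0⟩,
    ⟨0, 48, [.conj 1 0, .mul 2 1], some 2, 0, 0⟩,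
    ⟨0, 49, [.conj 1 1, .conj 1 2, .conj 2 2, .mul 2 1, .mul 3 1, .mul 3 2], some 4, 0, 0⟩,
    ⟨0, 51, [.conj 1 2, .conj 1 6], none, 3, 2⟩,
    ⟨0, 55, [.conj 1 0, .conj 1 1, .conj 1 2, .conj 1 4, .conj 2 2, .conj 3 2, .conj 4 4, .mul 2 1, .mul 3 1, .mul 3 2, .mul 5 1, .mul 5 2, .mul 5 3, .mul 5 4], some 6, 0, 0⟩,
    ⟨0, 56, [.conj 1 2, .conj 1 6], none, 3, 2⟩,
    ⟨0, 68, [.conj 1 0, .conj 1 1, .conj 1 2, .conj 1 4, .conj 2 2, .conj 3 2, .conj 4 4, .mul 2 1, .mul 3 1, .mul 3 2, .mul 5 1, .mul 5 2, .mul 5 3, .mul 5 4], some 6, 0, 0⟩,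
    ⟨0, 70, [.conj 1 0, .conj 1 1, .conj 1 2, .conj 1 4, .conj 2 2, .conj 3 2, .conj 4 4, .mul 2 1, .mul 3 1, .mul 3 2, .mul 4 1, .mul 4 2, .mul 4 3, .mul 5 1], some 6, 0, 0⟩,
    ⟨0, 72, [.conj 1 2, .conj 1 6], none, 3, 2⟩,
    ⟨0, 80, [.conj 1 1, .conj 1 2, .conj 2 2, .mul 2 1, .mul 3 1, .mul 3 2], some 4, 0, 0⟩,
    ⟨0, 84, [.conj 1 0, .conj 1 1, .conj 1 2, .conj 1 4, .conj 2 2, .conj 3 2, .conj 4 4, .mul 2 1, .mul 3 1, .mul 3 2, .mul 4 1, .mul 4 2, .mul 4 3, .mul 5 1], some 6, 0, 0⟩,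
    ⟨0, 91, [.conj 1 5, .conj 1 6, .conj 2 6, .mul 2 1, .mul 3 1, .mul 3 2], some 3, 0, 0⟩,
    ⟨0, 92, [.conj 1 0, .conj 1 5, .conj 1 6, .conj 2 5, .conj 2 6, .conj 3 6, .conj 5 6, .mul 2 1, .mul 3 1, .mul 3 2, .mul 4 1, .mul 4 2, .mul 4 3, .mul 5 1], some 5, 0, 0⟩,
    ⟨0, 94, [.conj 1 0, .conj 1 5, .conj 1 6, .conj 2 5, .conj 2 6, .conj 3 6, .conj 5 6, .mul 2 1, .mul 3 1, .mul 3 2, .mul 4 1, .mul 4 2, .mul 4 3, .mul 5 1], some 5, 0, 0⟩,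
    ⟨0, 97, [.conj 1 0, .conj 1 2, .conj 2 2, .mul 2 1, .mul 3 1, .mul 3 2], some 4, 0, 0⟩,
    ⟨0, 109, [.conj 1 0, .conj 1 1, .conj 1 2, .conj 1 4, .conj 2 2, .conj 3 2, .conj 4 4, .mul 2 1, .mul 3 1, .mul 3 2, .mul 4 1, .mul 4 2, .mul 4 3, .mul 5 1], some 6, 0, 0⟩,
    ⟨0, 111, [.conj 1 0, .conj 1 1, .conj 1 2, .conj 1 4, .conj 2 2, .conj 3 2, .conj 4 4, .mul 2 1, .mul 3 1, .mul 3 2, .mul 5 1, .mul 5 2, .mul 5 3, .mul 5 4], some 6, 0, 0⟩,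
    ⟨0, 119, [.conj 1 0, .conj 1 1, .conj 1 2, .conj 1 4, .conj 2 2, .conj 3 2, .conj 4 4, .mul 2 1, .mul 3 1, .mul 3 2, .mul 5 1, .mul 5 2, .mul 5 3, .mul 5 4], some 6, 0, 0⟩]

/-- Witnesses above one subgroup. -/
def grow1 : List Grow :=
  [⟨1, 1, [.conj 2 2, .conj 2 6], none, 4, 3⟩,
    ⟨1, 2, [.conj 2 2, .conj 2 6], none, 4, 3⟩,
    ⟨1, 3, [.conj 2 0, .conj 2 5, .conj 2 6, .conj 3 5, .conj 3 6, .conj 4 6, .conj 6 6, .mul 3 2, .mul 4 2, .mul 4 3, .mul 5 3, .mul 5 4, .mul 6 2], some 5, 0, 0⟩,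
    ⟨1, 4, [.conj 2 0, .conj 2 5, .conj 2 6, .conj 3 5, .conj 3 6, .conj 4 6, .conj 6 6, .mul 3 2, .mul 4 2, .mul 4 3, .mul 5 3, .mul 5 4, .mul 6 2], some 5, 0, 0⟩,
    ⟨1, 5, [.conj 2 0, .conj 2 6, .conj 3 6, .mul 4 2, .mul 4 3], some 3, 0, 0⟩,
    ⟨1, 6, [.conj 2 2, .conj 2 6], none, 4, 3⟩,
    ⟨1, 7, [.conj 2 0, .conj 2 1, .conj 2 2, .conj 2 4, .conj 3 2, .conj 4 2, .conj 5 4, .mul 3 2, .mul 4 2, .mul 4 3, .mul 5 3, .mul 5 4, .mul 6 2], some 6, 0, 0⟩,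
    ⟨1, 8, [.conj 2 5, .conj 2 6, .conj 3 6, .mul 4 2, .mul 4 3], some 3, 0, 0⟩,
    ⟨1, 17, [.conj 2 0, .conj 2 2, .conj 3 2, .mul 4 2, .mul 4 3], some 4, 0, 0⟩,
    ⟨1, 20, [.conj 2 0, .conj 2 5, .conj 2 6, .conj 3 5, .conj 3 6, .conj 4 6, .conj 6 6, .mul 3 2, .mul 4 2, .mul 4 3, .mul 6 2, .mul 6 3, .mul 6 4], some 5, 0, 0⟩,
    ⟨1, 23, [.conj 2 0, .conj 2 5, .conj 2 6, .conj 3 5, .conj 3 6, .conj 4 6, .conj 6 6, .mul 3 2, .mul 4 2, .mul 4 3, .mul 6 2, .mul 6 3, .mul 6 4], some 5, 0, 0⟩,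
    ⟨1, 28, [.conj 2 2, .conj 2 6], none, 4, 3⟩,
    ⟨1, 36, [.conj 2 0, .conj 2 5, .conj 2 6, .conj 3 5, .conj 3 6, .conj 4 6, .conj 6 6, .mul 3 2, .mul 4 2, .mul 4 3, .mul 6 2, .mul 6 3, .mul 6 4], some 5, 0, 0⟩,
    ⟨1, 37, [.conj 2 0, .conj 2 5, .conj 2 6, .conj 3 5, .conj 3 6, .conj 4 6, .conj 6 6, .mul 3 2, .mul 4 2, .mul 4 3, .mul 6 2, .mul 6 3, .mul 6 4], some 5, 0, 0⟩,
    ⟨1, 38, [.conj 2 0], some 2, 0, 0⟩,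
    ⟨1, 40, [.conj 2 2, .conj 2 6], none, 4, 3⟩,
    ⟨1, 47, [.conj 2 0, .conj 2 6, .conj 3 6, .mul 4 2, .mul 4 3], some 3, 0, 0⟩,
    ⟨1, 48, [.conj 2 0], some 2, 0, 0⟩,
    ⟨1, 49, [.conj 2 1, .conj 2 2, .conj 3 2, .mul 4 2, .mul 4 3], some 4, 0, 0⟩,
    ⟨1, 51, [.conj 2 2, .conj 2 6], none, 4, 3⟩,
    ⟨1, 55, [.conj 2 0, .conj 2 1, .conj 2 2, .conj 2 4, .conj 3 2, .conj 4 2, .conj 5 4, .mul 3 2, .mul 4 2, .mul 4 3, .mul 6 2, .mul 6 3, .mul 6 4], some 6, 0, 0⟩,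
    ⟨1, 56, [.conj 2 2, .conj 2 6], none, 4, 3⟩,
    ⟨1, 68, [.conj 2 0, .conj 2 1, .conj 2 2, .conj 2 4, .conj 3 2, .conj 4 2, .conj 5 4, .mul 3 2, .mul 4 2, .mul 4 3, .mul 6 2, .mul 6 3, .mul 6 4], some 6, 0, 0⟩,
    ⟨1, 70, [.conj 2 0, .conj 2 1, .conj 2 2, .conj 2 4, .conj 3 2, .conj 4 2, .conj 5 4, .mul 3 2, .mul 4 2, .mul 4 3, .mul 5 3, .mul 5 4, .mul 6 2], some 6, 0, 0⟩,
    ⟨1, 72, [.conj 2 2, .conj 2 6], none, 4, 3⟩,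
    ⟨1, 80, [.conj 2 1, .conj 2 2, .conj 3 2, .mul 4 2, .mul 4 3], some 4, 0, 0⟩,
    ⟨1, 84, [.conj 2 0, .conj 2 1, .conj 2 2, .conj 2 4, .conj 3 2, .conj 4 2, .conj 5 4, .mul 3 2, .mul 4 2, .mul 4 3, .mul 5 3, .mul 5 4, .mul 6 2], some 6, 0, 0⟩,
    ⟨1, 91, [.conj 2 5, .conj 2 6, .conj 3 6, .mul 4 2, .mul 4 3], some 3, 0, 0⟩,
    ⟨1, 92, [.conj 2 0, .conj 2 5, .conj 2 6, .conj 3 5, .conj 3 6, .conj 4 6, .conj 6 6, .mul 3 2, .mul 4 2, .mul 4 3, .mul 5 3, .mul 5 4, .mul 6 2], some 5, 0, 0⟩,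
    ⟨1, 94, [.conj 2 0, .conj 2 5, .conj 2 6, .conj 3 5, .conj 3 6, .conj 4 6, .conj 6 6, .mul 3 2, .mul 4 2, .mul 4 3, .mul 5 3, .mul 5 4, .mul 6 2], some 5, 0, 0⟩,
    ⟨1, 97, [.conj 2 0, .conj 2 2, .conj 3 2, .mul 4 2, .mul 4 3], some 4, 0, 0⟩,
    ⟨1, 109, [.conj 2 0, .conj 2 1, .conj 2 2, .conj 2 4, .conj 3 2, .conj 4 2, .conj 5 4, .mul 3 2, .mul 4 2, .mul 4 3, .mul 5 3, .mul 5 4, .mul 6 2], some 6, 0, 0⟩,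
    ⟨1, 111, [.conj 2 0, .conj 2 1, .conj 2 2, .conj 2 4, .conj 3 2, .conj 4 2, .conj 5 4, .mul 3 2, .mul 4 2, .mul 4 3, .mul 6 2, .mul 6 3, .mul 6 4], some 6, 0, 0⟩,
    ⟨1, 119, [.conj 2 0, .conj 2 1, .conj 2 2, .conj 2 4, .conj 3 2, .conj 4 2, .conj 5 4, .mul 3 2, .mul 4 2, .mul 4 3, .mul 6 2, .mul 6 3, .mul 6 4], some 6, 0, 0⟩]

/-- Witnesses above one subgroup. -/
def grow2 : List Grow :=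
  [⟨2, 1, [], none, 4, 2⟩,
    ⟨2, 2, [], none, 4, 2⟩,
    ⟨2, 3, [.conj 4 0, .conj 4 5, .conj 4 6, .conj 5 5, .conj 5 6, .conj 6 6, .conj 8 6, .mul 5 4, .mul 6 4, .mul 7 5, .mul 7 6], some 5, 0, 0⟩,
    ⟨2, 4, [.conj 4 0, .conj 4 5, .conj 4 6, .conj 5 5, .conj 5 6, .conj 6 6, .conj 8 6, .mul 5 4, .mul 6 4, .mul 7 5, .mul 7 6], some 5, 0, 0⟩,
    ⟨2, 5, [.conj 4 0, .conj 4 6, .conj 5 6], some 3, 0, 0⟩,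
    ⟨2, 6, [], none, 4, 2⟩,
    ⟨2, 7, [.conj 4 0, .conj 4 1, .conj 4 2, .conj 4 4, .conj 5 2, .conj 6 2, .conj 7 4, .mul 5 4, .mul 6 4, .mul 7 5, .mul 7 6], some 6, 0, 0⟩,
    ⟨2, 8, [.conj 4 5, .conj 4 6, .conj 5 6], some 3, 0, 0⟩,
    ⟨2, 17, [.conj 4 0, .conj 4 2, .conj 5 2], some 4, 0, 0⟩,
    ⟨2, 20, [.conj 4 0, .conj 4 5, .conj 4 6, .conj 5 5, .conj 5 6, .conj 6 6, .conj 8 6, .mul 5 4, .mul 6 4, .mul 8 5, .mul 8 6], some 5, 0, 0⟩,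
    ⟨2, 23, [.conj 4 0, .conj 4 5, .conj 4 6, .conj 5 5, .conj 5 6, .conj 6 6, .conj 8 6, .mul 5 4, .mul 6 4, .mul 8 5, .mul 8 6], some 5, 0, 0⟩,
    ⟨2, 28, [], none, 4, 2⟩,
    ⟨2, 36, [.conj 4 0, .conj 4 5, .conj 4 6, .conj 5 5, .conj 5 6, .conj 6 6, .conj 8 6, .mul 5 4, .mul 6 4, .mul 8 5, .mul 8 6], some 5, 0, 0⟩,
    ⟨2, 37, [.conj 4 0, .conj 4 5, .conj 4 6, .conj 5 5, .conj 5 6, .conj 6 6, .conj 8 6, .mul 5 4, .mul 6 4, .mul 8 5, .mul 8 6], some 5, 0, 0⟩,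
    ⟨2, 40, [], none, 4, 2⟩,
    ⟨2, 47, [.conj 4 0, .conj 4 6, .conj 5 6], some 3, 0, 0⟩,
    ⟨2, 49, [.conj 4 1, .conj 4 2, .conj 5 2], some 4, 0, 0⟩,
    ⟨2, 51, [], none, 4, 2⟩,
    ⟨2, 55, [.conj 4 0, .conj 4 1, .conj 4 2, .conj 4 4, .conj 5 2, .conj 6 2, .conj 7 4, .mul 5 4, .mul 6 4, .mul 8 5, .mul 8 6], some 6, 0, 0⟩,
    ⟨2, 56, [], none, 4, 2⟩,
    ⟨2, 68, [.conj 4 0, .conj 4 1, .conj 4 2, .conj 4 4, .conj 5 2, .conj 6 2, .conj 7 4, .mul 5 4, .mul 6 4, .mul 8 5, .mul 8 6], some 6, 0, 0⟩,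
    ⟨2, 70, [.conj 4 0, .conj 4 1, .conj 4 2, .conj 4 4, .conj 5 2, .conj 6 2, .conj 7 4, .mul 5 4, .mul 6 4, .mul 7 5, .mul 7 6], some 6, 0, 0⟩,
    ⟨2, 72, [], none, 4, 2⟩,
    ⟨2, 80, [.conj 4 1, .conj 4 2, .conj 5 2], some 4, 0, 0⟩,
    ⟨2, 84, [.conj 4 0, .conj 4 1, .conj 4 2, .conj 4 4, .conj 5 2, .conj 6 2, .conj 7 4, .mul 5 4, .mul 6 4, .mul 7 5, .mul 7 6], some 6, 0, 0⟩,
    ⟨2, 91, [.conj 4 5, .conj 4 6, .conj 5 6], some 3, 0, 0⟩,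
    ⟨2, 92, [.conj 4 0, .conj 4 5, .conj 4 6, .conj 5 5, .conj 5 6, .conj 6 6, .conj 8 6, .mul 5 4, .mul 6 4, .mul 7 5, .mul 7 6], some 5, 0, 0⟩,
    ⟨2, 94, [.conj 4 0, .conj 4 5, .conj 4 6, .conj 5 5, .conj 5 6, .conj 6 6, .conj 8 6, .mul 5 4, .mul 6 4, .mul 7 5, .mul 7 6], some 5, 0, 0⟩,
    ⟨2, 97, [.conj 4 0, .conj 4 2, .conj 5 2], some 4, 0, 0⟩,
    ⟨2, 109, [.conj 4 0, .conj 4 1, .conj 4 2, .conj 4 4, .conj 5 2, .conj 6 2, .conj 7 4, .mul 5 4, .mul 6 4, .mul 7 5, .mul 7 6], some 6, 0, 0⟩,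
    ⟨2, 111, [.conj 4 0, .conj 4 1, .conj 4 2, .conj 4 4, .conj 5 2, .conj 6 2, .conj 7 4, .mul 5 4, .mul 6 4, .mul 8 5, .mul 8 6], some 6, 0, 0⟩,
    ⟨2, 119, [.conj 4 0, .conj 4 1, .conj 4 2, .conj 4 4, .conj 5 2, .conj 6 2, .conj 7 4, .mul 5 4, .mul 6 4, .mul 8 5, .mul 8 6], some 6, 0, 0⟩]

/-- Witnesses above one subgroup. -/
def grow3 : List Grow :=
  [⟨3, 1, [], none, 8, 1⟩,
    ⟨3, 2, [], none, 8, 1⟩,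
    ⟨3, 3, [.conj 8 0, .conj 8 5, .conj 8 6, .conj 9 5, .conj 9 6, .conj 10 6, .conj 12 6], some 5, 0, 0⟩,
    ⟨3, 4, [.conj 8 0, .conj 8 5, .conj 8 6, .conj 9 5, .conj 9 6, .conj 10 6, .conj 12 6], some 5, 0, 0⟩,
    ⟨3, 6, [], none, 8, 2⟩,
    ⟨3, 7, [], none, 8, 1⟩,
    ⟨3, 17, [], none, 8, 1⟩,
    ⟨3, 20, [.conj 8 0, .conj 8 5, .conj 8 6, .conj 9 5, .conj 9 6, .conj 10 6, .conj 12 6], some 5, 0, 0⟩,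
    ⟨3, 23, [.conj 8 0, .conj 8 5, .conj 8 6, .conj 9 5, .conj 9 6, .conj 10 6, .conj 12 6], some 5, 0, 0⟩,
    ⟨3, 28, [], none, 8, 2⟩,
    ⟨3, 36, [.conj 8 0, .conj 8 5, .conj 8 6, .conj 9 5, .conj 9 6, .conj 10 6, .conj 12 6], some 5, 0, 0⟩,
    ⟨3, 37, [.conj 8 0, .conj 8 5, .conj 8 6, .conj 9 5, .conj 9 6, .conj 10 6, .conj 12 6], some 5, 0, 0⟩,
    ⟨3, 40, [], none, 8, 1⟩,
    ⟨3, 49, [], none, 8, 1⟩,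
    ⟨3, 51, [], none, 8, 2⟩,
    ⟨3, 55, [], none, 8, 1⟩,
    ⟨3, 56, [], none, 8, 1⟩,
    ⟨3, 68, [], none, 8, 1⟩,
    ⟨3, 70, [], none, 8, 1⟩,
    ⟨3, 72, [], none, 8, 2⟩,
    ⟨3, 80, [], none, 8, 1⟩,
    ⟨3, 84, [], none, 8, 1⟩,
    ⟨3, 92, [.conj 8 0, .conj 8 5, .conj 8 6, .conj 9 5, .conj 9 6, .conj 10 6, .conj 12 6], some 5, 0, 0⟩,
    ⟨3, 94, [.conj 8 0, .conj 8 5, .conj 8 6, .conj 9 5, .conj 9 6, .conj 10 6, .conj 12 6], some 5, 0, 0⟩,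
    ⟨3, 97, [], none, 8, 1⟩,
    ⟨3, 109, [], none, 8, 1⟩,
    ⟨3, 111, [], none, 8, 1⟩,
    ⟨3, 119, [], none, 8, 1⟩]

/-- Witnesses above one subgroup. -/
def grow4 : List Grow :=
  [⟨4, 1, [], none, 8, 1⟩,
    ⟨4, 2, [], none, 8, 3⟩,
    ⟨4, 3, [], none, 8, 1⟩,
    ⟨4, 4, [], none, 8, 1⟩,
    ⟨4, 5, [], none, 8, 1⟩,
    ⟨4, 6, [], none, 8, 3⟩,
    ⟨4, 7, [.conj 8 0, .conj 8 1, .conj 8 2, .conj 8 4, .conj 9 2, .conj 10 2, .conj 11 4], some 6, 0, 0⟩,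
    ⟨4, 8, [], none, 8, 1⟩,
    ⟨4, 20, [], none, 8, 1⟩,
    ⟨4, 23, [], none, 8, 1⟩,
    ⟨4, 28, [], none, 8, 1⟩,
    ⟨4, 36, [], none, 8, 1⟩,
    ⟨4, 37, [], none, 8, 1⟩,
    ⟨4, 40, [], none, 8, 1⟩,
    ⟨4, 47, [], none, 8, 1⟩,
    ⟨4, 51, [], none, 8, 3⟩,
    ⟨4, 55, [.conj 8 0, .conj 8 1, .conj 8 2, .conj 8 4, .conj 9 2, .conj 10 2, .conj 11 4], some 6, 0, 0⟩,
    ⟨4, 56, [], none, 8, 3⟩,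
    ⟨4, 68, [.conj 8 0, .conj 8 1, .conj 8 2, .conj 8 4, .conj 9 2, .conj 10 2, .conj 11 4], some 6, 0, 0⟩,
    ⟨4, 70, [.conj 8 0, .conj 8 1, .conj 8 2, .conj 8 4, .conj 9 2, .conj 10 2, .conj 11 4], some 6, 0, 0⟩,
    ⟨4, 72, [], none, 8, 1⟩,
    ⟨4, 84, [.conj 8 0, .conj 8 1, .conj 8 2, .conj 8 4, .conj 9 2, .conj 10 2, .conj 11 4], some 6, 0, 0⟩,
    ⟨4, 91, [], none, 8, 1⟩,
    ⟨4, 92, [], none, 8, 1⟩,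
    ⟨4, 94, [], none, 8, 1⟩,
    ⟨4, 109, [.conj 8 0, .conj 8 1, .conj 8 2, .conj 8 4, .conj 9 2, .conj 10 2, .conj 11 4], some 6, 0, 0⟩,
    ⟨4, 111, [.conj 8 0, .conj 8 1, .conj 8 2, .conj 8 4, .conj 9 2, .conj 10 2, .conj 11 4], some 6, 0, 0⟩,
    ⟨4, 119, [.conj 8 0, .conj 8 1, .conj 8 2, .conj 8 4, .conj 9 2, .conj 10 2, .conj 11 4], some 6, 0, 0⟩]

/-- Witnesses above one subgroup. -/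
def grow5 : List Grow :=
  [⟨5, 1, [], none, 16, 1⟩,
    ⟨5, 2, [], none, 16, 1⟩,
    ⟨5, 6, [], none, 16, 1⟩,
    ⟨5, 7, [], none, 16, 1⟩,
    ⟨5, 17, [], none, 16, 1⟩,
    ⟨5, 28, [], none, 16, 1⟩,
    ⟨5, 40, [], none, 16, 1⟩,
    ⟨5, 49, [], none, 16, 1⟩,
    ⟨5, 51, [], none, 16, 1⟩,
    ⟨5, 55, [], none, 16, 1⟩,
    ⟨5, 56, [], none, 16, 1⟩,
    ⟨5, 68, [], none, 16, 1⟩,
    ⟨5, 70, [], none, 16, 1⟩,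
    ⟨5, 72, [], none, 16, 1⟩,
    ⟨5, 80, [], none, 16, 1⟩,
    ⟨5, 84, [], none, 16, 1⟩,
    ⟨5, 97, [], none, 16, 1⟩,
    ⟨5, 109, [], none, 16, 1⟩,
    ⟨5, 111, [], none, 16, 1⟩,
    ⟨5, 119, [], none, 16, 1⟩]

/-- Witnesses above one subgroup. -/
def grow6 : List Grow :=
  [⟨6, 1, [], none, 16, 1⟩,
    ⟨6, 2, [], none, 16, 1⟩,
    ⟨6, 3, [], none, 16, 1⟩,
    ⟨6, 4, [], none, 16, 1⟩,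
    ⟨6, 5, [], none, 16, 1⟩,
    ⟨6, 6, [], none, 16, 1⟩,
    ⟨6, 8, [], none, 16, 1⟩,
    ⟨6, 20, [], none, 16, 1⟩,
    ⟨6, 23, [], none, 16, 1⟩,
    ⟨6, 28, [], none, 16, 1⟩,
    ⟨6, 36, [], none, 16, 1⟩,
    ⟨6, 37, [], none, 16, 1⟩,
    ⟨6, 40, [], none, 16, 1⟩,
    ⟨6, 47, [], none, 16, 1⟩,
    ⟨6, 51, [], none, 16, 1⟩,
    ⟨6, 56, [], none, 16, 1⟩,
    ⟨6, 72, [], none, 16, 1⟩,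
    ⟨6, 91, [], none, 16, 1⟩,
    ⟨6, 92, [], none, 16, 1⟩,
    ⟨6, 94, [], none, 16, 1⟩]

/-- All the witnesses. -/
def grows : List Grow :=
  grow0 ++ grow1 ++ grow2 ++ grow3 ++ grow4 ++ grow5 ++ grow6

end Cfsg.Lib.CosetEnum.Fi23Sylow
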